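import Cfsg.Agent.H191.KB.Final_m3
import Cfsg.Agent.H508.KB.Defs
import Cfsg.Agent.H293.TwExc
import Cfsg.Agent.H631.ExcChev
import Cfsg.Agent.KFacts.RgdSyl
import Cfsg.Agent.H965.XZ.Walk
import Cfsg.Agent.KFacts.RgdDiag
import Cfsg.Agent.KFacts.RgdAutFacts
import Cfsg.Agent.KFacts.TwESix.OutTwo
import Cfsg.Agent.Nodes.RGDTwE6
import Cfsg.Agent.FastGrp
import Cfsg.Agent.Prune
set_option linter.all false

section
prune_inst 0x7f00000000000000000000000000000000000000000000000000000000000000000000000000000000000000000000000000000000000000000000000000000000000000000000000000000000000000003fffffffffffffffffffffffffffbeffbdffffffff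

-- part: H326/EB/Chev
section
set_option linter.all false
open scoped Cfsg.Agent.FastGrp

/-!
# S4822, task EX1: the Borel subgroup of `E₇(q)`, `E₈(q)` and the automorphisms (helper326)

`core` : the hypothesis of `extB_of_perm` for `D.group K` without diagram symmetries; `perm_E78` : for `E₇`, `E₈`.
-/

set_option autoImplicit false
set_option linter.unusedSectionVars false

namespace Cfsg.Agent.H326.EB

open CoxeterSystem Cfsg.Agent.ChevalleyStructure.CoxeterGeom Cfsg.Agent.Tits.Roots Cfsg.Agent.Tits.Core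
  Cfsg.Agent.Nodes.Reps Cfsg.Agent.Nodes.BNOf Cfsg.Agent.Nodes.Bruhat
  Cfsg.Agent.Nodes.OppDec Cfsg.Agent.Nodes.RGDChev
  Cfsg.Agent.KFacts.RgdAut Cfsg.Agent.KFacts.RgdDiag Cfsg.Agent.KFacts.RgdRigid
  Cfsg.Agent.KFacts.RgdChevCoord
open Cfsg.Lie Cfsg.Agent.ChevalleyStructure Cfsg.Agent.ChevalleyStructure.Elts
  Cfsg.Agent.ChevalleyStructure.NPerm Cfsg.Agent.ChevalleyStructure.CoxeterGeomTypes

universe u

/-- the hypothesis of `extB_of_perm` -/
def PermHyp (p : ℕ) (S : Type u) [Group S] : Prop :=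
  ∀ (A : Type u) [Group A] [Finite A] (f : S →* A), Function.Injective f → f.range.Normal →
    Subgroup.centralizer (f.range : Set A) = ⊥ → ¬ p ∣ f.range.index →
    ∃ X : Subgroup S, p ∣ X.index ∧ X ≠ ⊤ ∧
      ∃ Y : Subgroup A, Y.comap f = X ∧ f.range ⊔ Y = ⊤ ∧
        ∀ s : S, ∀ y ∈ Y, ∃ x₁ ∈ X, ∃ x₂ ∈ X, ∃ s' : S, f s' = y * f s * y⁻¹ ∧ s' = x₁ * s * x₂

/-- transport along an isomorphism -/
theorem transport {p : ℕ} {S : Type*} {S₀ : Type*} [Group S] [Group S₀] (e : S ≃* S₀) {A : Type u} [Group A] (f : S →* A)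
    (h : ∃ X : Subgroup S₀, p ∣ X.index ∧ X ≠ ⊤ ∧
      ∃ Y : Subgroup A, Y.comap (f.comp e.symm.toMonoidHom) = X ∧ (f.comp e.symm.toMonoidHom).range ⊔ Y = ⊤ ∧
        ∀ s : S₀, ∀ y ∈ Y, ∃ x₁ ∈ X, ∃ x₂ ∈ X, ∃ s' : S₀, f.comp e.symm.toMonoidHom s' =
          y * f.comp e.symm.toMonoidHom s * y⁻¹ ∧ s' = x₁ * s * x₂) :
    ∃ X : Subgroup S, p ∣ X.index ∧ X ≠ ⊤ ∧
      ∃ Y : Subgroup A, Y.comap f = X ∧ f.range ⊔ Y = ⊤ ∧
        ∀ s : S, ∀ y ∈ Y, ∃ x₁ ∈ X, ∃ x₂ ∈ X, ∃ s' : S, f s' = y * f s * y⁻¹ ∧ s' = x₁ * s * x₂ := by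
  obtain ⟨X, h1, h2, Y, h3, h4, h5⟩ := h
  have hr : (f.comp e.symm.toMonoidHom).range = f.range := by
    ext a
    constructor
    · rintro ⟨s, rfl⟩
      exact ⟨e.symm s, rfl⟩
    · rintro ⟨s, rfl⟩
      exact ⟨e s, by show f (e.symm (e s)) = f s; rw [MulEquiv.symm_apply_apply]⟩
  refine ⟨X.comap e.toMonoidHom, ?_, ?_, Y, ?_, ?_, ?_⟩
  · rw [Subgroup.index_comap_of_surjective X e.surjective]
    exact h1
  · intro h6
    apply h2
    rw [eq_top_iff]
    intro x _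
    have h7 : e.symm x ∈ X.comap e.toMonoidHom := by rw [h6]; exact Subgroup.mem_top _
    have h8 : e (e.symm x) ∈ X := h7
    rwa [MulEquiv.apply_symm_apply] at h8
  · ext s
    rw [← h3]
    show f s ∈ Y ↔ f (e.symm (e s)) ∈ Y
    rw [MulEquiv.symm_apply_apply]
  · rw [← hr]; exact h4
  · intro s y hy
    obtain ⟨x₁, hx₁, x₂, hx₂, s', h6, h7⟩ := h5 (e s) y hy
    refine ⟨e.symm x₁, ?_, e.symm x₂, ?_, e.symm s', ?_, ?_⟩
    · show e (e.symm x₁) ∈ X
      rwa [MulEquiv.apply_symm_apply]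
    · show e (e.symm x₂) ∈ X
      rwa [MulEquiv.apply_symm_apply]
    · have h8 : f (e.symm s') = y * f (e.symm (e s)) * y⁻¹ := h6
      rwa [MulEquiv.symm_apply_apply] at h8
    · rw [h7, map_mul, map_mul, MulEquiv.symm_apply_apply]

section

variable {D : ChevalleyDatum} {l : ℕ} {M : CoxeterMatrix (Fin l)} (hp : IsType D l M) {K : Type} [Field K] [Fintype K]
  {r : ℕ} [hr : Fact r.Prime] [CharP K r]

include hp

end

end Cfsg.Agent.H326.EB
end

-- part: H69/EB/TwE6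
section
set_option linter.all false
open scoped Cfsg.Agent.FastGrp

-- part: H69/EB/Rgd
section
/-!
# S4822, `ExtB`: groups with a root group datum and no diagram automorphisms (helper69)

`Y` a finite group generated by the root groups of a root group datum of characteristic `r`, such that every
automorphism which permutes the simple root groups fixes the nodes.

* `exists_cells` : an automorphism fixing `U` maps every `s` into `B s B`;
* **`exists_Y`** : `f : Y → A` injective with normal image: `N = N_A(f(U))` satisfies `f⁻¹(N) = B`, `f(Y) N = A`, and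
  `N` fixes the double cosets of `B`.
-/

set_option autoImplicit false
set_option linter.unusedSectionVars false

namespace Cfsg.Agent.H69.EB

open CoxeterSystem Cfsg.Agent.ChevalleyStructure.CoxeterGeom Cfsg.Agent.Tits.Roots Cfsg.Agent.Tits.Core
  Cfsg.Agent.Tits.Exchange Cfsg.Agent.Nodes.Reps Cfsg.Agent.Nodes.BNOf Cfsg.Agent.Nodes.StabComb
  Cfsg.Agent.Nodes.Bruhat Cfsg.Agent.Nodes.OppDec Cfsg.Agent.Nodes.LeviDec Cfsg.Agent.Nodes.NormalForm
  Cfsg.Agent.KFacts.RgdOpp Cfsg.Agent.KFacts.RgdAut Cfsg.Agent.KFacts.RgdDiag Cfsg.Agent.KFacts.RgdAutFacts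

variable {I W Y : Type*} [Fintype I] [DecidableEq I] [Group W] [Group Y] {M : CoxeterMatrix I}
  {cs : CoxeterSystem M W} {A : I → I → ℤ} {h : IsCartan M A} {r : ℕ} {T : Subgroup Y} {n : I → Y}
  {X : (I → ℤ) → Subgroup Y}

theorem hat_one (hσ : ∀ i j, M ((1 : Equiv.Perm I) i) ((1 : Equiv.Perm I) j) = M i j) (w : W) :
    hat cs 1 hσ w = w := by
  obtain ⟨ω, rfl⟩ := cs.wordProd_surjective w
  induction ω with
  | nil => rw [wordProd_nil, map_one]
  | cons i ω ih => rw [wordProd_cons, map_mul, hat_simple, ih]; rfl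

variable (R : RGD cs h r T n X) [Finite W]

include R

/-- two elements of the same cell -/
theorem of_cell {w : W} {s s' : Y} (hs : Cell R.nsys cs h X w s) (hs' : Cell R.nsys cs h X w s') :
    ∃ x₁ ∈ RGD.B cs h T X, ∃ x₂ ∈ RGD.B cs h T X, s' = x₁ * s * x₂ := by
  obtain ⟨b₁, hb₁, k, hk, b₂, hb₂, rfl⟩ := hs
  obtain ⟨c₁, hc₁, l, hl, c₂, hc₂, rfl⟩ := hs'
  have ht : k⁻¹ * l ∈ T := hk.unique hl
  refine ⟨c₁ * b₁⁻¹, mul_mem hc₁ (inv_mem hb₁), b₂⁻¹ * (k⁻¹ * l) * c₂,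
    mul_mem (mul_mem (inv_mem hb₂) (RGD.T_le_B ht)) hc₂, ?_⟩
  group

/-- **Automorphisms fixing `U` fix the double cosets of `B`.** -/
theorem exists_cells (hG : GG cs h T X = ⊤) (hσ : ∀ (β : MulAut Y) (σ : Equiv.Perm I), Diag T X β σ → σ = 1)
    {α : MulAut Y} (hα : Fix α (RGD.Sup X (RGD.Pos cs h))) (s : Y) :
    ∃ x₁ ∈ RGD.B cs h T X, ∃ x₂ ∈ RGD.B cs h T X, α s = x₁ * s * x₂ := by
  obtain ⟨u, hu, hU, hB, hUN, hBN, hT⟩ := exists_frame R hG hα
  obtain ⟨σ, D⟩ := exists_diag R hG hU hUN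
  obtain rfl := hσ _ _ D
  have huB : u ∈ RGD.B cs h T X := RGD.U_le_B hu
  obtain ⟨w, hw⟩ := (mem_GG R).1 (show s ∈ GG cs h T X by rw [hG]; exact Subgroup.mem_top _)
  obtain ⟨b₁, hb₁, k, hk, b₂, hb₂, rfl⟩ := hw
  have h1 := D.rp' (R := R) (D.matrix R) hk
  rw [hat_one] at h1
  have h2 : Cell R.nsys cs h X w ((MulAut.conj u * α) (b₁ * k * b₂)) := by
    rw [map_mul, map_mul]
    exact ⟨_, (hB _).2 hb₁, _, h1, _, (hB _).2 hb₂, rfl⟩
  have h3 : α (b₁ * k * b₂) = u⁻¹ * (MulAut.conj u * α) (b₁ * k * b₂) * u := by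
    rw [MulAut.mul_apply, MulAut.conj_apply]
    group
  have h4 : Cell R.nsys cs h X w (α (b₁ * k * b₂)) := by
    rw [h3]
    exact (h2.mul_left (inv_mem huB)).mul_right huB
  exact of_cell R ⟨b₁, hb₁, k, hk, b₂, hb₂, rfl⟩ h4

omit [Finite W] R in
/-- conjugation on the image of a monomorphism -/
theorem exists_conj {A' : Type*} [Group A'] {f : Y →* A'} (hf : Function.Injective f) (hN : f.range.Normal) (a : A') :
    ∃ α : MulAut Y, ∀ s, f (α s) = a * f s * a⁻¹ := by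
  let e : Y ≃* f.range := MonoidHom.ofInjective hf
  refine ⟨(e.trans (MulAut.conjNormal a)).trans e.symm, fun s => ?_⟩
  have h1 : ∀ x : f.range, f (e.symm x) = x := fun x => congrArg Subtype.val (e.apply_symm_apply x)
  change f (e.symm (MulAut.conjNormal a (e s))) = _
  rw [h1, MulAut.conjNormal_apply]
  rfl

omit [Finite W] R in
theorem mem_norm_map {A' : Type*} [Group A'] {f : Y →* A'} (hf : Function.Injective f) {U : Subgroup Y} {a : A'}
    {α : MulAut Y} (hα : ∀ s, f (α s) = a * f s * a⁻¹) :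
    a ∈ Subgroup.normalizer (U.map f : Set A') ↔ Fix α U := by
  have hmem : ∀ y, f y ∈ U.map f ↔ y ∈ U := fun y => Subgroup.mem_map_iff_mem hf
  rw [Subgroup.mem_normalizer_iff]
  constructor
  · intro h s
    rw [← hmem, ← hmem s, hα]
    exact (h (f s)).symm
  · intro h g
    constructor
    · rintro ⟨y, hy, rfl⟩
      rw [← hα]
      exact (hmem _).2 ((h y).2 hy)
    · rintro ⟨y, hy, e⟩
      have h1 : g = f (α⁻¹ y) := by
        have h2 := hα (α⁻¹ y)
        rw [MulAut.apply_inv_self, e] at h2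
        have h3 : g = a⁻¹ * (a * g * a⁻¹) * a := by group
        rw [h3, h2]
        group
      rw [h1]
      exact (hmem _).2 ((h.inv y).2 hy)

/-- **The subgroup `N_A(f(U))`.** -/
theorem exists_Y [Finite Y] [Fact r.Prime] (hG : GG cs h T X = ⊤)
    (hσ : ∀ (β : MulAut Y) (σ : Equiv.Perm I), Diag T X β σ → σ = 1) {A' : Type*} [Group A'] (f : Y →* A')
    (hf : Function.Injective f) (hN : f.range.Normal) :
    ∃ N : Subgroup A', N.comap f = RGD.B cs h T X ∧ f.range ⊔ N = ⊤ ∧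
      ∀ s : Y, ∀ y ∈ N, ∃ x₁ ∈ RGD.B cs h T X, ∃ x₂ ∈ RGD.B cs h T X, ∃ s' : Y, f s' = y * f s * y⁻¹ ∧
        s' = x₁ * s * x₂ := by
  refine ⟨Subgroup.normalizer (((RGD.Sup X (RGD.Pos cs h)).map f : Subgroup A') : Set A'), ?_, ?_, ?_⟩
  · ext y
    rw [Subgroup.mem_comap, mem_norm_map hf (α := MulAut.conj y)
      (fun s => by rw [MulAut.conj_apply, map_mul, map_mul, map_inv]), ← normalizer_U' R hG,
      Subgroup.mem_normalizer_iff]
    exact ⟨fun h s => (h s).symm, fun h s => (h s).symm⟩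
  · rw [eq_top_iff]
    intro a _
    obtain ⟨α, hα⟩ := exists_conj hf hN a
    obtain ⟨S₀, hS₀⟩ := exists_sylow R hG
    have h1 : IsPGroup r ↥((RGD.Sup X (RGD.Pos cs h)).map α.toMonoidHom) := R.isPGroup_Upos.map _
    have hcard : Nat.card ↥((RGD.Sup X (RGD.Pos cs h)).map α.toMonoidHom) = Nat.card ↥(RGD.Sup X (RGD.Pos cs h)) :=
      Nat.card_congr (Subgroup.equivMapOfInjective _ α.toMonoidHom α.injective).symm.toEquiv
    obtain ⟨S, hS⟩ := h1.exists_le_sylow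
    have hS' : (S : Subgroup Y) = (RGD.Sup X (RGD.Pos cs h)).map α.toMonoidHom := by
      symm
      apply Subgroup.eq_of_le_of_card_ge hS
      rw [hcard, ← hS₀]
      exact (Nat.card_congr (Sylow.equiv S S₀).toEquiv).le
    obtain ⟨g, hg⟩ := sylow_eq_cj R hG S
    rw [hS'] at hg
    have h2 : f g⁻¹ * a ∈ Subgroup.normalizer (((RGD.Sup X (RGD.Pos cs h)).map f : Subgroup A') : Set A') := by
      rw [mem_norm_map hf (α := MulAut.conj g⁻¹ * α) (fun s => by
        rw [MulAut.mul_apply, MulAut.conj_apply, map_mul, map_mul, hα, map_inv, map_inv, mul_inv_rev, map_inv]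
        group)]
      rw [fix_iff]
      have h3 : (RGD.Sup X (RGD.Pos cs h)).map (MulAut.conj g⁻¹ * α).toMonoidHom =
          ((RGD.Sup X (RGD.Pos cs h)).map α.toMonoidHom).map (MulAut.conj g⁻¹).toMonoidHom := by
        rw [Subgroup.map_map]
        rfl
      rw [h3, hg]
      ext x
      constructor
      · rintro ⟨y, hy, rfl⟩
        have h4 : g⁻¹ * y * g ∈ RGD.Sup X (RGD.Pos cs h) := mem_cj.1 hy
        change g⁻¹ * y * g⁻¹⁻¹ ∈ _
        rw [inv_inv]
        exact h4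
      · intro hx
        refine ⟨g * x * g⁻¹, conj_mem_cj.2 hx, ?_⟩
        change g⁻¹ * (g * x * g⁻¹) * g⁻¹⁻¹ = x
        group
    have h3 : a = f g * (f g⁻¹ * a) := by rw [map_inv]; group
    rw [h3]
    exact mul_mem ((le_sup_left : f.range ≤ _) ⟨g, rfl⟩) ((le_sup_right : _ ≤ f.range ⊔ _) h2)
  · intro s y hy
    obtain ⟨α, hα⟩ := exists_conj hf hN y
    obtain ⟨x₁, h₁, x₂, h₂, e⟩ := exists_cells R hG hσ ((mem_norm_map hf hα).1 hy) s
    exact ⟨x₁, h₁, x₂, h₂, α s, hα s, e⟩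

omit [Finite W] in
/-- powers in `B` modulo `U` -/
theorem pow_mem_U {e : ℕ} (hT : ∀ t ∈ T, t ^ e = 1) {x : Y} (hx : x ∈ RGD.B cs h T X) :
    x ^ e ∈ RGD.Sup X (RGD.Pos cs h) := by
  obtain ⟨t, ht, u, hu, rfl⟩ := R.mem_B.1 hx
  have htN := R.T_le_normalizer_U ht
  have key : ∀ k : ℕ, ∃ v ∈ RGD.Sup X (RGD.Pos cs h), (t * u) ^ k = t ^ k * v := by
    intro k
    induction k with
    | zero => exact ⟨1, one_mem _, by rw [pow_zero, pow_zero, one_mul]⟩
    | succ k ih =>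
      obtain ⟨v, hv, e1⟩ := ih
      have h1 : t⁻¹ * v * t ∈ RGD.Sup X (RGD.Pos cs h) := by
        have := (Subgroup.mem_normalizer_iff.1 (inv_mem htN) v).1 hv
        rwa [inv_inv] at this
      refine ⟨t⁻¹ * v * t * u, mul_mem h1 hu, ?_⟩
      rw [pow_succ, e1, pow_succ]
      group
  obtain ⟨v, hv, e1⟩ := key e
  rw [e1, hT t ht, one_mul]
  exact hv

/-- **`p ∤ |B|`** -/
theorem not_dvd_B [Finite Y] {p e : ℕ} (hp : p.Prime) (hr : r.Prime) (hpr : r ≠ p) (hT : ∀ t ∈ T, t ^ e = 1)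
    (he : ¬ p ∣ e) : ¬ p ∣ Nat.card ↥(RGD.B cs h T X) := by
  intro hd
  have : Fact p.Prime := ⟨hp⟩
  obtain ⟨x, hx⟩ := exists_prime_orderOf_dvd_card' p hd
  have h1 := pow_mem_U R hT x.2
  obtain ⟨k, hk⟩ := R.isPGroup_Upos ⟨_, h1⟩
  have h2 : ((x : Y) ^ e) ^ r ^ k = 1 := congrArg Subtype.val hk
  rw [← pow_mul] at h2
  have h3 : p ∣ e * r ^ k := by
    rw [← hx, ← orderOf_submonoid]
    exact orderOf_dvd_of_pow_eq_one h2
  rcases hp.dvd_mul.1 h3 with h4 | h4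
  · exact he h4
  · exact hpr ((Nat.prime_dvd_prime_iff_eq hp hr).1 (hp.dvd_of_dvd_pow h4)).symm

end Cfsg.Agent.H69.EB
end

-- part: H69/EB/TwE6
section
/-!
# S4822, task EX3: the Borel subgroup of `²E₆(q)` and the automorphisms (helper69)
-/

set_option autoImplicit false
set_option linter.unusedSectionVars false

namespace Cfsg.Agent.H69.EB

open CoxeterSystem Cfsg.Agent.ChevalleyStructure.CoxeterGeom Cfsg.Agent.Tits.Roots Cfsg.Agent.Tits.Core
  Cfsg.Agent.Nodes.Reps Cfsg.Agent.Nodes.BNOf Cfsg.Agent.Nodes.Bruhat Cfsg.Agent.Nodes.OppDec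
  Cfsg.Agent.Nodes.RGDChev Cfsg.Agent.Nodes.RGDFold
  Cfsg.Agent.KFacts.RgdAut Cfsg.Agent.KFacts.RgdDiag Cfsg.Agent.KFacts.RgdRigid
open Cfsg.Lie Cfsg.Agent.ChevalleyStructure
open Cfsg.Agent.KFacts.TwESix.Out Cfsg.Agent.KFacts.TwESix.OutTwo Cfsg.Agent.Nodes.RGDTwE6
open Cfsg.Agent.ChevalleyStructure.TwE6Basic (exists_frob)

universe u

variable {K : Type} [Field K] [Fintype K]

/-- **The torus of `²E₆(q)`.** -/
theorem T_pow {q : ℕ} (hK : Fintype.card K = q ^ 2) (t : ↥(twistedE6 K q)) (ht : t ∈ T K q) :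
    t ^ (q ^ 2 - 1) = 1 := by
  rw [← hK]
  have h1 : ((t : ↥(twistedE6 K q)) : GL chevE6.Idx K) ∈ chevE6.diagonalSubgroup K := (Subgroup.mem_subgroupOf.1 ht).1
  obtain ⟨χ, hχ⟩ := HMatDiagAll.mem_torus.1 (HMatDiagAll.diagonalSubgroup_le_torus hp.inList h1)
  have hinv : (((t : GL chevE6.Idx K)⁻¹ : GL chevE6.Idx K) : Matrix chevE6.Idx chevE6.Idx K) *
      ((t : GL chevE6.Idx K) : Matrix _ _ K) = 1 := by
    rw [← Units.val_mul, inv_mul_cancel]; rfl
  have hne : ∀ i, χ i ≠ 0 := by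
    intro i h0
    rw [hχ] at hinv
    have h2 := congrFun (congrFun hinv (Sum.inr i)) (Sum.inr i)
    rw [Matrix.mul_diagonal, Matrix.one_apply_eq, Sum.elim_inr, h0, mul_zero] at h2
    exact zero_ne_one h2
  apply Subtype.ext
  apply Units.ext
  rw [SubgroupClass.coe_pow, Units.val_pow_eq_pow_val, hχ, Matrix.diagonal_pow, OneMemClass.coe_one, Units.val_one,
    ← Matrix.diagonal_one]
  congr 1
  funext i
  rcases i with i | i
  · simp
  · rw [Pi.pow_apply, Sum.elim_inr]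
    exact FiniteField.pow_card_sub_one_eq_one _ (hne i)

/-- **`²E₆(q)`** -/
theorem perm_2E6 {S : Type u} [Group S] [Finite S] {p r : ℕ} [hpp : Fact p.Prime] [hr : Fact r.Prime] [CharP K r]
    (hrp : r ≠ p) {q : ℕ} (hq : IsPrimePow q) (hK : Fintype.card K = q ^ 2) (hq' : ¬ p ∣ q ^ 2 - 1)
    (hpS : p ∣ Nat.card S) (e : Nonempty (S ≃* Lie.twistedE6 K q)) : H326.EB.PermHyp p S := by
  obtain ⟨e⟩ := e
  intro A _ _ f hf hn _ _
  refine H326.EB.transport e f ?_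
  obtain ⟨φ, hφ, hqq⟩ := exists_frob hq hK
  let cs : CoxeterSystem CoxeterMatrix.F₄ CoxeterMatrix.F₄.Group := CoxeterMatrix.F₄.toCoxeterSystem
  have : Finite CoxeterMatrix.F₄.Group := finite_W (hp := Nodes.RGDTwE6.hp) cs isCartan foldData
  have R := Cfsg.Agent.Nodes.RGDTwE6.rgd cs hφ hqq r
  have hG1 := G1_top cs hφ hqq
  have hG := GG_eq_top (T := T K q) hG1
  have hσ : ∀ (β : MulAut ↥(twistedE6 K q)) (σ : Equiv.Perm (Fin 4)), Diag (T K q) (X φ q) β σ → σ = 1 := by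
    intro β σ D
    apply perm_F4 σ (D.matrix R)
    intro h3
    have h4 := KFacts.RgdNodes.Diag.card_eq D 0
    rw [h3] at h4
    exact card_ne hφ hqq hK hq.one_lt h4
  have hf' : Function.Injective (f.comp e.symm.toMonoidHom) := hf.comp e.symm.injective
  have hr' : (f.comp e.symm.toMonoidHom).range = f.range := by
    ext a
    constructor
    · rintro ⟨s, rfl⟩
      exact ⟨e.symm s, rfl⟩
    · rintro ⟨s, rfl⟩
      exact ⟨e s, by show f (e.symm (e s)) = f s; rw [MulEquiv.symm_apply_apply]⟩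
  have hn' : (f.comp e.symm.toMonoidHom).range.Normal := by rw [hr']; exact hn
  obtain ⟨N, h1, h2, h3⟩ := exists_Y R hG hσ (f.comp e.symm.toMonoidHom) hf' hn'
  have hB := not_dvd_B R hpp.out hr.out hrp (T_pow hK) hq'
  have hidx : p ∣ (RGD.B cs isCartan (T K q) (X φ q)).index := by
    have h4 := (RGD.B cs isCartan (T K q) (X φ q)).card_mul_index
    rw [Nat.card_congr e.toEquiv, ← h4] at hpS
    exact (hpp.out.dvd_mul.1 hpS).resolve_left hB
  refine ⟨RGD.B cs isCartan (T K q) (X φ q), hidx, ?_, N, h1, h2, h3⟩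
  intro h4
  rw [h4, Subgroup.index_top] at hidx
  exact hpp.out.one_lt.ne' (Nat.dvd_one.1 hidx)

theorem extB_2E6_of {S : Type u} [Group S] [Finite S] {p : ℕ} [Fact p.Prime] {M : Ideal AlgInt}
    (hE : H326.EB.PermHyp p S → H508.KB.ExtB p M S) {r : ℕ} [Fact r.Prime] {F : Type} [Field F]
    [Fintype F] [CharP F r] (hrp : r ≠ p) (q : ℕ) (hq : IsPrimePow q) (hF : Fintype.card F = q ^ 2)
    (hq' : ¬ p ∣ q ^ 2 - 1) (hpS : p ∣ Nat.card S) (e : Nonempty (S ≃* Lie.twistedE6 F q)) :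
    H508.KB.ExtB p M S := hE (perm_2E6 hrp hq hF hq' hpS e)

end Cfsg.Agent.H69.EB
end
end
end
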